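import Groth.Agent.UnibNormLib.Alg
import Groth.Agent.SteinLib.Homeo
import Groth.Agent.NormFinVarLib.Normal

/-! Normalization of a geometrically unibranch scheme in a purely inseparable extension. -/

universe u
open CategoryTheory Limits AlgebraicGeometry

namespace UnibNormLib

theorem subsingleton_pullback {N Y : Scheme.{u}} (p : N ⟶ Y) [UniversallyInjective p] (K : Type u) [Field K]
    (z : Spec (CommRingCat.of K) ⟶ Y) : Subsingleton ↥(pullback p z) :=
  haveI : UniversallyInjective (pullback.snd p z) := MorphismProperty.pullback_snd (P := @UniversallyInjective) _ _ inferInstance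
  (pullback.snd p z).injective.subsingleton

theorem isUnivHomeo_fromNormalization {Y : Scheme.{u}} [IsIntegral Y]
    (hY : ∀ y : Y, CAlg2.IsGeomUnibranch (Y.presheaf.stalk y))
    (L : Type u) [Field L] [Algebra Y.functionField L] [IsPurelyInseparable Y.functionField L]
    [QuasiCompact (Spec.map (CommRingCat.ofHom (algebraMap Y.functionField L)) ≫ Y.fromSpecStalk (genericPoint Y))]
    [QuasiSeparated (Spec.map (CommRingCat.ofHom (algebraMap Y.functionField L)) ≫ Y.fromSpecStalk (genericPoint Y))] :
    FlatMor.IsUnivHomeo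
      (Spec.map (CommRingCat.ofHom (algebraMap Y.functionField L)) ≫ Y.fromSpecStalk (genericPoint Y)).fromNormalization := by
  set a := Spec.map (CommRingCat.ofHom (algebraMap Y.functionField L))
  set f := a ≫ Y.fromSpecStalk (genericPoint Y) with hf
  haveI : Surjective f.fromNormalization := by
    refine ⟨fun y => ?_⟩
    have hc : IsClosed (Set.range f.fromNormalization) := f.fromNormalization.isClosedMap.isClosed_range
    obtain ⟨z⟩ : Nonempty (Spec (CommRingCat.of L)) := inferInstance
    have hz : f z = genericPoint Y := by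
      have h := (IsLocalRing.specializes_closedPoint (R := Y.presheaf.stalk (genericPoint Y)) (a z)).map (Y.fromSpecStalk (genericPoint Y)).continuous
      rw [Scheme.fromSpecStalk_closedPoint] at h
      exact h.antisymm (genericPoint_specializes _) |>.eq
    refine ((genericPoint_specializes y).mem_closed hc ⟨f.toNormalization z, ?_⟩)
    rw [← Scheme.Hom.comp_apply, f.toNormalization_fromNormalization, hz]
  haveI : UniversallyInjective f.fromNormalization := by
    refine ((tfae_universallyInjective f.fromNormalization).out 1 0).1 ?_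
    intro Ω _ g₁ g₂ hg
    let c := IsLocalRing.closedPoint Ω
    obtain ⟨U, hU, hxU, -⟩ := exists_isAffineOpen_mem_and_subset (X := Y) (x := (g₁ ≫ f.fromNormalization) c) (U := ⊤) trivial
    have hne : Nonempty U := ⟨⟨_, hxU⟩⟩
    let W := f.fromNormalization ⁻¹ᵁ U
    have hW : IsAffineOpen W := hU.preimage f.fromNormalization
    have hrange : ∀ g : Spec (CommRingCat.of Ω) ⟶ f.normalization, g ≫ f.fromNormalization = g₁ ≫ f.fromNormalization →
        ∃ φ : Γ(f.normalization, W) ⟶ CommRingCat.of Ω, Spec.map φ ≫ hW.fromSpec = g := by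
      intro g hg'
      have hsub : Set.range g ⊆ Set.range hW.fromSpec := by
        rw [hW.range_fromSpec]
        rintro _ ⟨w, rfl⟩
        show f.fromNormalization (g w) ∈ U
        rw [← Scheme.Hom.comp_apply, hg', show w = c from Subsingleton.elim _ _]
        exact hxU
      exact ⟨Spec.preimage (IsOpenImmersion.lift hW.fromSpec g hsub), by rw [Spec.map_preimage, IsOpenImmersion.lift_fac]⟩
    obtain ⟨φ₁, rfl⟩ := hrange g₁ rfl
    obtain ⟨φ₂, rfl⟩ := hrange g₂ hg.symm
    have happ : f.fromNormalization.app U ≫ φ₁ = f.fromNormalization.app U ≫ φ₂ := by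
      apply Spec.map_injective
      rw [← cancel_mono hU.fromSpec, Scheme.Hom.app_eq_appLE, Spec.map_comp, Spec.map_comp, Category.assoc, Category.assoc,
        hU.SpecMap_appLE_fromSpec _ hW, ← Category.assoc, ← Category.assoc]
      exact hg
    suffices φ₁ = φ₂ by rw [this]
    haveI := functionField_isFractionRing_of_isAffineOpen Y U hU
    letI : Algebra Γ(Y, U) Γ(Spec (CommRingCat.of L), f ⁻¹ᵁ U) := (f.app U).hom.toAlgebra
    letI : Algebra Γ(Y, U) L := ((algebraMap Y.functionField L).comp (algebraMap Γ(Y, U) Y.functionField)).toAlgebra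
    haveI : IsScalarTower Γ(Y, U) Y.functionField L := IsScalarTower.of_algebraMap_eq fun _ => rfl
    have hη : genericPoint Y ∈ U := ((genericPoint_spec Y).mem_open_set_iff U.isOpen).2 (by simpa using hne)
    have htop : f ⁻¹ᵁ U = ⊤ := top_le_iff.1 fun z _ => by
      have h := (IsLocalRing.specializes_closedPoint (R := Y.presheaf.stalk (genericPoint Y)) (a z)).map (Y.fromSpecStalk (genericPoint Y)).continuous
      rw [Scheme.fromSpecStalk_closedPoint] at h
      exact h.mem_open U.2 hη
    let r : Γ(Spec (CommRingCat.of L), f ⁻¹ᵁ U) ⟶ CommRingCat.of L :=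
      (Spec (CommRingCat.of L)).presheaf.map (eqToHom htop.symm).op ≫ (Scheme.ΓSpecIso (CommRingCat.of L)).hom
    haveI : IsIso r := by dsimp [r]; infer_instance
    have key : f.app U ≫ r = Y.presheaf.germ U (genericPoint Y) hη ≫ CommRingCat.ofHom (algebraMap Y.functionField L) :=
      NormFinVarLib.app_stalk hη (CommRingCat.ofHom (algebraMap Y.functionField L)) htop
    let e : Γ(Spec (CommRingCat.of L), f ⁻¹ᵁ U) ≃ₐ[Γ(Y, U)] L :=
      AlgEquiv.ofRingEquiv (f := (asIso r).commRingCatIsoToRingEquiv) fun s => congr($(key) s)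
    let E := e.mapIntegralClosure
    let N := f.normalizationObjIso hU
    have hfn := Scheme.Hom.fromNormalization_app f hU
    have hmain : (φ₁.hom.comp N.inv.hom).comp E.symm.toAlgHom.toRingHom =
        (φ₂.hom.comp N.inv.hom).comp E.symm.toAlgHom.toRingHom := by
      refine hom_eq (K := Y.functionField) (fun q _ => ?_) _ _ (RingHom.ext fun s => ?_)
      · refine ⟨Y.presheaf.stalk (hU.fromSpec ⟨q, ‹_›⟩), inferInstance, inferInstance, ?_⟩
        have hy : hU.fromSpec ⟨q, ‹_›⟩ ∈ U := by
          show _ ∈ (U : Set Y)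
          rw [← hU.range_fromSpec]; exact ⟨_, rfl⟩
        letI := (Y.presheaf.germ U _ hy).hom.toAlgebra
        exact ⟨inferInstance, hU.isLocalization_stalk' ⟨q, ‹_›⟩ hy, hY _⟩
      · show φ₁ (N.inv (E.symm (algebraMap Γ(Y, U) _ s))) = φ₂ (N.inv (E.symm (algebraMap Γ(Y, U) _ s)))
        rw [AlgEquiv.commutes]
        have h := congr($(happ) s)
        rw [hfn] at h
        exact h
    refine CommRingCat.hom_ext (RingHom.ext fun z => ?_)
    have h := RingHom.congr_fun hmain (E (N.hom z))
    simpa using h
  exact SteinLib.isUnivHomeo_of _ fun K _ z => subsingleton_pullback f.fromNormalization K z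

end UnibNormLib
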