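import Groth.Agent.HensFormalLib.Radicial

/-! Integral closures of geometrically unibranch domains in purely inseparable extensions are radicial. -/

universe u
open IsLocalRing

namespace UnibNormLib

theorem hom_unique_field {R : Type u} [CommRing R] [IsLocalRing R] (hR : CAlg2.IsGeomUnibranch R)
    {Ω : Type u} [Field Ω] (h : R →+* Ω) (hker : RingHom.ker h = maximalIdeal R)
    (ψ₁ ψ₂ : CAlg2.normRed R →+* Ω)
    (h₁ : ∀ r, ψ₁ (algebraMap R _ r) = h r) (h₂ : ∀ r, ψ₂ (algebraMap R _ r) = h r) : ψ₁ = ψ₂ := by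
  haveI := hR.1.1
  haveI := hR.1.2
  let ι : ResidueField R →+* Ω := Ideal.Quotient.lift (maximalIdeal R) h fun a ha => RingHom.mem_ker.1 (hker.ge ha)
  obtain ⟨q, hq⟩ := ExpChar.exists (ResidueField R)
  haveI := hq
  haveI : ExpChar Ω q := expChar_of_injective_ringHom ι.injective q
  haveI : Algebra.IsIntegral R (CAlg2.normRed R) := Algebra.IsIntegral.trans (CAlg2.red R)
  have hmax : ∀ ψ : CAlg2.normRed R →+* Ω, (∀ r, ψ (algebraMap R _ r) = h r) →
      RingHom.ker ψ = maximalIdeal (CAlg2.normRed R) := by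
    intro ψ hψ
    haveI : (RingHom.ker ψ).IsPrime := RingHom.ker_isPrime ψ
    refine IsLocalRing.eq_maximalIdeal (Ideal.isMaximal_of_isIntegral_of_isMaximal_comap (R := R) _ ?_)
    rw [RingHom.comap_ker, show ψ.comp (algebraMap R _) = h from RingHom.ext hψ, hker]
    exact maximalIdeal.isMaximal R
  refine RingHom.ext fun z => ?_
  obtain ⟨n, r, hr⟩ := HensFormalLib.residue_pow hR (maximalIdeal (CAlg2.normRed R)) q z
  refine iterateFrobenius_inj Ω q n ?_
  rw [iterateFrobenius_def, iterateFrobenius_def]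
  have e1 := RingHom.mem_ker.1 ((hmax ψ₁ h₁).ge hr)
  have e2 := RingHom.mem_ker.1 ((hmax ψ₂ h₂).ge hr)
  rw [map_sub, map_pow, h₁, sub_eq_zero] at e1
  rw [map_sub, map_pow, h₂, sub_eq_zero] at e2
  rw [e1, e2]

theorem hom_eq_fractionField {R S K Ω : Type u} [CommRing R] [IsDomain R] [Field K] [Field Ω] [Algebra R K]
    [IsFractionRing R K] (q : Ideal R) [q.IsPrime] [CommRing S] [IsLocalRing S] [Algebra R S]
    [IsLocalization.AtPrime S q] (hS : CAlg2.IsGeomUnibranch S)
    (φ₁ φ₂ : integralClosure R K →+* Ω)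
    (heq : φ₁.comp (algebraMap R _) = φ₂.comp (algebraMap R _))
    (hker : RingHom.ker (φ₁.comp (algebraMap R _)) = q) : φ₁ = φ₂ := by
  set f := φ₁.comp (algebraMap R (integralClosure R K)) with hf
  let M := q.primeCompl
  have hM : M ≤ nonZeroDivisors R := q.primeCompl_le_nonZeroDivisors
  haveI : IsDomain S := IsLocalization.isDomain_of_le_nonZeroDivisors S hM
  have hu : ∀ y : M, IsUnit (algebraMap R K y) := fun y => IsLocalization.map_units K (⟨y.1, hM y.2⟩ : nonZeroDivisors R)
  letI : Algebra S K := (IsLocalization.lift hu).toAlgebra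
  haveI : IsScalarTower R S K := IsScalarTower.of_algebraMap_eq fun r => (IsLocalization.lift_eq hu r).symm
  haveI : IsFractionRing S K := IsFractionRing.isFractionRing_of_isDomain_of_isLocalization M S K
  haveI : IsLocalization (Algebra.algebraMapSubmonoid K M) K :=
    IsLocalization.self (by rintro _ ⟨y, hy, rfl⟩; exact hu ⟨y, hy⟩)
  let C := integralClosure S K
  let A' := integralClosure R K
  letI : Algebra A' C :=
    ({ toFun := fun x => ⟨x.1, x.2.tower_top⟩, map_one' := rfl, map_mul' := fun _ _ => rfl,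
       map_zero' := rfl, map_add' := fun _ _ => rfl } : A' →+* C).toAlgebra
  haveI : IsScalarTower A' C K := IsScalarTower.of_algebraMap_eq fun _ => rfl
  haveI : IsScalarTower R A' C := IsScalarTower.of_algebraMap_eq fun r => Subtype.ext rfl
  haveI : IsLocalization (Algebra.algebraMapSubmonoid A' M) C := IsLocalization.integralClosure (Rf := S) (Sf := K) M
  have hunit : ∀ φ : A' →+* Ω, φ.comp (algebraMap R A') = f → ∀ y : Algebra.algebraMapSubmonoid A' M, IsUnit (φ y) := by
    rintro φ hφ ⟨_, y, hy, rfl⟩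
    refine IsUnit.mk0 _ fun h0 => hy ?_
    show y ∈ q
    rw [← hker, RingHom.mem_ker, ← hφ]
    exact h0
  let ρ : CAlg2.red S ≃+* S := (Ideal.quotientEquiv _ ⊥ (RingEquiv.refl S) (by rw [nilradical_eq_zero S]; simp)).trans (RingEquiv.quotientBot S)
  haveI := hS.1.1
  let ε : FractionRing (CAlg2.red S) ≃+* K := IsFractionRing.ringEquivOfRingEquiv ρ
  have hε : ∀ s : S, ε (algebraMap S _ s) = algebraMap S K s := fun s => by
    rw [IsScalarTower.algebraMap_apply S (CAlg2.red S), IsFractionRing.ringEquivOfRingEquiv_algebraMap]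
    rfl
  have hεi : ∀ x, IsIntegral (CAlg2.red S) x → IsIntegral S (ε x) := fun x hx => by
    have hx' : IsIntegral S x := isIntegral_trans x hx
    exact hx'.map (⟨ε.toRingHom, hε⟩ : FractionRing (CAlg2.red S) →ₐ[S] K)
  have hεs : ∀ c, IsIntegral S c → IsIntegral (CAlg2.red S) (ε.symm c) := fun c hc =>
    (hc.map (⟨ε.symm.toRingHom, fun s => by
      show ε.symm (algebraMap S K s) = _
      rw [← hε, ε.symm_apply_apply]⟩ : K →ₐ[S] FractionRing (CAlg2.red S))).tower_top
  let κ : CAlg2.normRed S →+* C :=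
    { toFun := fun z => ⟨ε z.1, hεi z.1 z.2⟩, map_one' := Subtype.ext (map_one ε)
      map_mul' := fun a b => Subtype.ext (map_mul ε a.1 b.1), map_zero' := Subtype.ext (map_zero ε)
      map_add' := fun a b => Subtype.ext (map_add ε a.1 b.1) }
  have hκ : Function.Surjective κ := fun c => ⟨⟨ε.symm c.1, hεs c.1 c.2⟩, Subtype.ext (ε.apply_symm_apply _)⟩
  let Φ : ∀ φ : A' →+* Ω, φ.comp (algebraMap R A') = f → C →+* Ω := fun φ hφ => IsLocalization.lift (hunit φ hφ)
  have hfu : ∀ y : M, IsUnit (f y) := fun y => IsUnit.mk0 _ fun h0 => y.2 (hker.le (RingHom.mem_ker.2 h0))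
  let h : S →+* Ω := IsLocalization.lift hfu
  have hh : ∀ (φ : A' →+* Ω) (hφ : φ.comp (algebraMap R A') = f),
      ((Φ φ hφ).comp κ).comp (algebraMap S (CAlg2.normRed S)) = h := fun φ hφ => by
    refine IsLocalization.ringHom_ext M (RingHom.ext fun r => ?_)
    simp only [RingHom.comp_apply, h, IsLocalization.lift_eq]
    have e : κ (algebraMap S _ (algebraMap R S r)) = algebraMap A' C (algebraMap R A' r) := by
      refine Subtype.ext ((hε _).trans ?_)
      exact (IsScalarTower.algebraMap_apply R S K r).symm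
    rw [e]
    show IsLocalization.lift (hunit φ hφ) _ = _
    rw [IsLocalization.lift_eq, ← hφ]
    rfl
  have hkh : RingHom.ker h = maximalIdeal S := by
    refine le_antisymm (IsLocalRing.le_maximalIdeal (RingHom.ker_ne_top h)) fun s hs => ?_
    obtain ⟨r, y, rfl⟩ := IsLocalization.exists_mk'_eq M s
    rw [IsLocalization.AtPrime.mk'_mem_maximal_iff S q r y, ← hker, RingHom.mem_ker] at hs
    rw [RingHom.mem_ker, IsLocalization.lift_mk', hs, zero_mul]
  have key := hom_unique_field hS h hkh ((Φ φ₁ rfl).comp κ) ((Φ φ₂ heq.symm).comp κ)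
    (fun r => RingHom.congr_fun (hh φ₁ rfl) r) (fun r => RingHom.congr_fun (hh φ₂ heq.symm) r)
  refine RingHom.ext fun x => ?_
  obtain ⟨z, hz⟩ := hκ (algebraMap A' C x)
  have e : Φ φ₁ rfl (κ z) = Φ φ₂ heq.symm (κ z) := RingHom.congr_fun key z
  rw [hz] at e
  simp only [Φ, IsLocalization.lift_eq] at e
  exact e

theorem hom_eq {R K L Ω : Type u} [CommRing R] [IsDomain R] [Field K] [Field L] [Field Ω] [Algebra R K]
    [IsFractionRing R K] [Algebra K L] [Algebra R L] [IsScalarTower R K L] [IsPurelyInseparable K L]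
    (hR : ∀ (q : Ideal R) [q.IsPrime], ∃ (S : Type u) (_ : CommRing S) (_ : IsLocalRing S) (_ : Algebra R S),
      IsLocalization.AtPrime S q ∧ CAlg2.IsGeomUnibranch S)
    (φ₁ φ₂ : integralClosure R L →+* Ω)
    (heq : φ₁.comp (algebraMap R _) = φ₂.comp (algebraMap R _)) : φ₁ = φ₂ := by
  let j : integralClosure R K →+* integralClosure R L :=
    { toFun := fun x => ⟨algebraMap K L x.1, x.2.map (IsScalarTower.toAlgHom R K L)⟩
      map_one' := Subtype.ext (map_one _), map_mul' := fun a b => Subtype.ext (map_mul _ a.1 b.1)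
      map_zero' := Subtype.ext (map_zero _), map_add' := fun a b => Subtype.ext (map_add _ a.1 b.1) }
  have hj : j.comp (algebraMap R _) = algebraMap R _ :=
    RingHom.ext fun r => Subtype.ext (IsScalarTower.algebraMap_apply R K L r).symm
  haveI : (RingHom.ker (φ₁.comp (algebraMap R (integralClosure R L)))).IsPrime := RingHom.ker_isPrime _
  obtain ⟨S, _, _, _, hloc, hS⟩ := hR (RingHom.ker (φ₁.comp (algebraMap R (integralClosure R L))))
  haveI := hloc
  have hK : φ₁.comp j = φ₂.comp j := hom_eq_fractionField _ hS _ _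
    (by rw [RingHom.comp_assoc, RingHom.comp_assoc, hj, heq]) (by rw [RingHom.comp_assoc, hj])
  refine RingHom.ext fun x => ?_
  obtain ⟨p, hp⟩ := ExpChar.exists K
  haveI := hp
  obtain ⟨n, y, hy⟩ := IsPurelyInseparable.pow_mem K p x.1
  have hyi : IsIntegral R y := by
    rw [← isIntegral_algHom_iff (IsScalarTower.toAlgHom R K L) (algebraMap K L).injective,
      IsScalarTower.coe_toAlgHom', hy]
    exact x.2.pow _
  have hx : j ⟨y, hyi⟩ = x ^ p ^ n := Subtype.ext hy
  have e : φ₁ x ^ p ^ n = φ₂ x ^ p ^ n := by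
    rw [← map_pow, ← map_pow, ← hx]
    exact RingHom.congr_fun hK ⟨y, hyi⟩
  rcases hp with _ | ⟨hprime⟩
  · simpa using e
  · haveI : Fact p.Prime := ⟨hprime⟩
    have h0 : (p : R) = 0 := IsFractionRing.injective R K (by rw [map_natCast, map_zero, CharP.cast_eq_zero])
    have h0' : (p : Ω) = 0 := by rw [← map_natCast (φ₁.comp (algebraMap R _)), h0, map_zero]
    haveI : CharP Ω p := CharP.charP_iff_prime_eq_zero hprime |>.2 h0'
    haveI : ExpChar Ω p := ExpChar.prime hprime
    exact iterateFrobenius_inj Ω p n (by simpa only [iterateFrobenius_def] using e)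

end UnibNormLib
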